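import Cfsg.Agent.Lib.Char.NatSL.Natural

/-!
# The torus of a natural `SL₂`-module moving an invariant set of fixed points

If the stabilizer of `W = C_V(A)` keeps a subgroup `N` of `C_V(T)` not fixed by the whole group, a torus element
`h` of order prime to `p` acts transitively on the non-zero elements `h a - a` with `a ∈ N`.
-/

set_option autoImplicit false
set_option linter.unusedSectionVars false
set_option linter.style.haveILetI false

open scoped MatrixGroups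

namespace CfsgLib.CFun.OffenderPair

open CfsgLib.Char.NatSL (OffData fixS mem_fixS fixS_mono tr mem_tr)

/-- A diagonal element of `SL₂`. -/
def diagU {F : Type*} [Field F] (c : Fˣ) : SL(2, F) :=
  ⟨!![(c : F), 0; 0, ((c⁻¹ : Fˣ) : F)], by simp [Matrix.det_fin_two_of]⟩

theorem diagU_mul {F : Type*} [Field F] (c d : Fˣ) : diagU (c * d) = diagU c * diagU d := by
  apply Subtype.ext
  rw [Matrix.SpecialLinearGroup.coe_mul]
  show !![((c * d : Fˣ) : F), 0; 0, (((c * d)⁻¹ : Fˣ) : F)] =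
    !![(c : F), 0; 0, ((c⁻¹ : Fˣ) : F)] * !![(d : F), 0; 0, ((d⁻¹ : Fˣ) : F)]
  ext i j
  fin_cases i <;> fin_cases j <;>
    simp [Matrix.mul_apply, Fin.sum_univ_two, mul_comm]

/-- A non-zero vector is an eigenvector, for any given unit, of a conjugate of a diagonal element. -/
theorem exists_eigen {F : Type*} [Field F] (u : Fin 2 → F) (hu : u ≠ 0) (c : Fˣ) :
    ∃ d : SL(2, F), (d : Matrix (Fin 2) (Fin 2) F).mulVec u = (c : F) • u ∧
      ∀ n : ℕ, c ^ n = 1 → d ^ n = 1 := by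
  obtain ⟨Q, hQ⟩ : ∃ Q : SL(2, F), (Q : Matrix (Fin 2) (Fin 2) F).mulVec ![1, 0] = u := by
    by_cases h0 : u 0 = 0
    · have h1 : u 1 ≠ 0 := fun h1 => hu (funext fun i => by fin_cases i <;> assumption)
      refine ⟨⟨!![u 0, -(u 1)⁻¹; u 1, 0], by simp [Matrix.det_fin_two_of, h1]⟩, ?_⟩
      ext i
      fin_cases i <;> simp [Matrix.mulVec, dotProduct, Fin.sum_univ_two]
    · refine ⟨⟨!![u 0, 0; u 1, (u 0)⁻¹], by simp [Matrix.det_fin_two_of, h0]⟩, ?_⟩
      ext i
      fin_cases i <;> simp [Matrix.mulVec, dotProduct, Fin.sum_univ_two]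
  let δ : Fˣ →* SL(2, F) := MonoidHom.mk' diagU diagU_mul
  refine ⟨Q * δ c * Q⁻¹, ?_, fun n hn => ?_⟩
  · have h1 : ((Q⁻¹ : SL(2, F)) : Matrix (Fin 2) (Fin 2) F).mulVec u = ![1, 0] := by
      rw [← hQ, Matrix.mulVec_mulVec, ← Matrix.SpecialLinearGroup.coe_mul, inv_mul_cancel,
        Matrix.SpecialLinearGroup.coe_one, Matrix.one_mulVec]
    have h2 : (δ c : Matrix (Fin 2) (Fin 2) F).mulVec ![1, 0] = (c : F) • ![1, 0] := by
      ext i
      fin_cases i <;> simp [δ, diagU, Matrix.mulVec, dotProduct, Fin.sum_univ_two]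
    rw [Matrix.SpecialLinearGroup.coe_mul, Matrix.SpecialLinearGroup.coe_mul, ← Matrix.mulVec_mulVec,
      ← Matrix.mulVec_mulVec, h1, h2, Matrix.mulVec_smul, hQ]
  · rw [conj_pow, ← map_pow, hn, map_one, mul_one, mul_inv_cancel]

/-- The fixed vectors of a non-trivial element of `SL₂` fixing `u ≠ 0` are multiples of `u`. -/
theorem exists_smul_of_fix {F : Type*} [Field F] {g : SL(2, F)} (hg : g ≠ 1) {u w : Fin 2 → F} (hu : u ≠ 0)
    (hgu : (g : Matrix (Fin 2) (Fin 2) F).mulVec u = u) (hgw : (g : Matrix (Fin 2) (Fin 2) F).mulVec w = w) :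
    ∃ c : F, w = c • u := by
  by_cases hdet : u 0 * w 1 - w 0 * u 1 = 0
  · by_cases h0 : u 0 = 0
    · have h1 : u 1 ≠ 0 := fun h1 => hu (funext fun i => by fin_cases i <;> assumption)
      have hw0 : w 0 = 0 := by simpa [h0, h1] using hdet
      refine ⟨w 1 / u 1, funext fun i => ?_⟩
      fin_cases i
      · simp [h0, hw0]
      · simp [h1]
    · refine ⟨w 0 / u 0, funext fun i => ?_⟩
      fin_cases i
      · simp [h0]
      · simp only [Pi.smul_apply, smul_eq_mul, Fin.mk_one]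
        field_simp
        linear_combination hdet
  · exfalso
    let B : Matrix (Fin 2) (Fin 2) F := !![u 0, w 0; u 1, w 1]
    have hB : IsUnit B.det := by
      simpa [B, Matrix.det_fin_two_of, isUnit_iff_ne_zero] using hdet
    have hu0 := congrFun hgu 0
    have hu1 := congrFun hgu 1
    have hw0 := congrFun hgw 0
    have hw1 := congrFun hgw 1
    simp [Matrix.mulVec, dotProduct, Fin.sum_univ_two] at hu0 hu1 hw0 hw1
    have hgB : (g : Matrix (Fin 2) (Fin 2) F) * B = 1 * B := by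
      rw [one_mul]
      ext i j
      fin_cases i <;> fin_cases j <;> simp [B, Matrix.mul_apply, Fin.sum_univ_two] <;> assumption
    apply hg
    apply Subtype.ext
    have h1 := congrArg (fun X => X * B⁻¹) hgB
    simpa [mul_assoc, Matrix.mul_nonsing_inv B hB] using h1

variable {H : Type*} [Group H] [Finite H] {V : Type*} [AddCommGroup V] [Finite V] [DistribMulAction H V]
  {p : ℕ} [hp : Fact p.Prime] {T : Sylow p H} {M A : Subgroup H}

/-- The torus element. -/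
theorem exists_torus (hd : OffData V p T M A) (hp2 : p ≠ 2) (N : AddSubgroup V)
    (hN : N ≤ fixS V (T : Subgroup H)) (hstab : ∀ g ∈ M, ∀ v ∈ N, g • v ∈ N)
    (hNZ : ∃ v ∈ N, v ∉ fixS V (⊤ : Subgroup H)) :
    ∃ h : H, h ∈ M ∧ (∃ n : ℕ, n.Coprime p ∧ h ^ n = 1) ∧ (∃ v ∈ N, h • v ≠ v) ∧
      ∀ a ∈ N, ∀ b ∈ N, h • a - a ≠ 0 → h • b - b ≠ 0 → ∃ i : ℕ, h ^ i • (h • a - a) = h • b - b := by
  classical
  obtain ⟨F, iF, iFf, hF, -, ρ, ψ, -, hψ0, hψ⟩ := hd.natural
  obtain ⟨x, hx⟩ := hd.exists_notMem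
  obtain ⟨a₁, ha₁, ha₁x⟩ := hd.conj_notLe hx
  have ha₁1 : a₁ ≠ 1 := fun h => ha₁x (by simp [h, M.one_mem])
  have hNW : N ≤ fixS V A := hN.trans (fixS_mono hd.aT)
  obtain ⟨v₀, hv₀, hv₀Z⟩ := hNZ
  set u := ψ v₀ with hu
  have hu0 : u ≠ 0 := fun h => hv₀Z ((hψ0 _).1 h)
  set g := ρ a₁ with hg
  have hg1 : g ≠ 1 := fun h => ha₁1 (ρ.injective (h.trans (map_one ρ).symm))
  have hgW : ∀ w ∈ fixS V A, (g : Matrix (Fin 2) (Fin 2) F).mulVec (ψ w) = ψ w := fun w hw => by
    rw [hg, ← hψ, mem_fixS.1 hw a₁ ha₁]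
  have hline : ∀ w ∈ fixS V A, ∃ c : F, ψ w = c • u := fun w hw =>
    exists_smul_of_fix hg1 hu0 (hgW v₀ (hNW hv₀)) (hgW w hw)
  -- the inverse image of the fixed line
  have hWchar : ∀ v : V, (g : Matrix (Fin 2) (Fin 2) F).mulVec (ψ v) = ψ v → v ∈ fixS V A := by
    intro v hv
    obtain ⟨htop, -, -, -⟩ := hd.surj_card hx
    obtain ⟨w, hw, w', hw', rfl⟩ :=
      AddSubgroup.mem_sup.1 (htop.symm ▸ AddSubgroup.mem_top v : v ∈ fixS V A ⊔ tr x (fixS V A))
    refine AddSubgroup.add_mem _ hw (fixS_mono le_top (hd.inj hx ha₁ ha₁1 hw' ?_))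
    rw [← hψ0, map_sub, sub_eq_zero, hψ]
    rw [map_add, Matrix.mulVec_add, hgW w hw] at hv
    exact add_left_cancel hv
  -- the eigenvalue
  obtain ⟨lam, hlam⟩ := IsCyclic.exists_generator (α := Fˣ)
  have hA1 : 1 < Nat.card ↥A := by
    rw [Finite.one_lt_card_iff_nontrivial]
    exact ⟨⟨a₁, ha₁⟩, 1, fun h => ha₁1 (congrArg Subtype.val h)⟩
  obtain ⟨k, hk⟩ := (T.2.to_le hd.aT).exists_card_eq
  have hk0 : k ≠ 0 := fun h => by rw [hk, h, pow_zero] at hA1; exact lt_irrefl _ hA1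
  have hodd : ¬ 2 ∣ Nat.card ↥A := by
    rw [hk]
    exact fun h => hp2 ((Nat.prime_dvd_prime_iff_eq Nat.prime_two hp.out).1
      (Nat.prime_two.dvd_of_dvd_pow h)).symm
  have hlam1 : lam ≠ 1 := by
    intro h
    have h1 : (-1 : Fˣ) = 1 := by
      have := hlam (-1)
      rwa [h, Subgroup.zpowers_one_eq_bot, Subgroup.mem_bot] at this
    have h2 : (1 : F) + 1 = 0 := by
      have := congrArg Units.val h1
      simp only [Units.val_neg, Units.val_one] at this
      linear_combination -this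
    refine hodd ?_
    rw [← hF, ← Nat.card_eq_fintype_card]
    have h3 : addOrderOf (1 : F) = 2 := by
      refine addOrderOf_eq_prime (hp := ⟨Nat.prime_two⟩) ?_ one_ne_zero
      rw [two_nsmul]
      exact h2
    exact h3 ▸ addOrderOf_dvd_natCard (1 : F)
  set q := Nat.card Fˣ with hq
  have hqp : q.Coprime p := by
    have h1 : q = p ^ k - 1 := by rw [hq, Nat.card_units, Nat.card_eq_fintype_card, hF, hk]
    rw [Nat.coprime_comm, hp.out.coprime_iff_not_dvd]
    intro hdvd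
    have h2 : p ∣ p ^ k := dvd_pow_self p hk0
    have h3 : p ∣ p ^ k - (p ^ k - 1) := Nat.dvd_sub h2 (h1 ▸ hdvd)
    rw [Nat.sub_sub_self (Nat.one_le_pow _ _ hp.out.pos)] at h3
    exact hp.out.ne_one (Nat.dvd_one.1 h3)
  obtain ⟨d, hd', hdpow⟩ := exists_eigen u hu0 lam
  set h := ρ.symm d with hh
  have hρh : ρ h = d := ρ.apply_symm_apply d
  have hstep : ∀ w ∈ fixS V A, ψ (h • w) = (lam : F) • ψ w := fun w hw => by
    obtain ⟨c, hc⟩ := hline w hw
    rw [hψ, hρh, hc, Matrix.mulVec_smul, hd', smul_comm]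
  have hW : ∀ w ∈ fixS V A, h • w ∈ fixS V A := fun w hw => hWchar _ (by
    rw [hstep w hw, Matrix.mulVec_smul, hgW w hw])
  have hM : h ∈ M := by
    by_contra hnot
    refine hv₀Z ?_
    have h1 : h • v₀ ∈ fixS V A ⊓ tr h (fixS V A) :=
      ⟨hW v₀ (hNW hv₀), CfsgLib.Char.NatSL.smul_mem_tr (hNW hv₀)⟩
    rw [hd.inf_eq hnot] at h1
    have h2 := mem_fixS.1 h1 h⁻¹ (Subgroup.mem_top _)
    rw [inv_smul_smul] at h2
    rwa [h2]
  have hpow : ∀ i : ℕ, ∀ w ∈ fixS V A, h ^ i • w ∈ fixS V A ∧ ψ (h ^ i • w) = ((lam ^ i : Fˣ) : F) • ψ w := by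
    intro i
    induction i with
    | zero => exact fun w hw => by simp [hw]
    | succ i ih =>
      intro w hw
      obtain ⟨h1, h2⟩ := ih w hw
      rw [pow_succ' h, mul_smul]
      exact ⟨hW _ h1, by rw [hstep _ h1, h2, smul_smul, pow_succ' lam, Units.val_mul]⟩
  refine ⟨h, hM, ⟨q, hqp, ρ.injective ?_⟩, ⟨v₀, hv₀, fun he => ?_⟩, fun a ha b hb ha0 hb0 => ?_⟩
  · rw [map_pow, hρh, map_one]
    exact hdpow q pow_card_eq_one'
  · have h1 := congrArg ψ he
    rw [hstep v₀ (hNW hv₀), ← hu] at h1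
    have h2 : ((lam : F) - 1) • u = 0 := by rw [sub_smul, one_smul, h1, sub_self]
    rcases smul_eq_zero.1 h2 with h3 | h3
    · exact hlam1 (Units.ext (by rw [Units.val_one]; exact sub_eq_zero.1 h3))
    · exact hu0 h3
  · have hne : ∀ w ∈ N, h • w - w ≠ 0 → ∃ c : Fˣ, ψ w = (c : F) • u := by
      intro w hw hw0
      obtain ⟨c, hc⟩ := hline w (hNW hw)
      refine ⟨Units.mk0 c fun h0 => hw0 ?_, hc⟩
      have hz := (hψ0 w).1 (by rw [hc, h0, zero_smul])
      rw [mem_fixS.1 hz h (Subgroup.mem_top _), sub_self]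
    obtain ⟨c, hc⟩ := hne a ha ha0
    obtain ⟨e, he⟩ := hne b hb hb0
    obtain ⟨i, hi⟩ := (mem_powers_iff_mem_zpowers.2 (hlam (e * c⁻¹)) : e * c⁻¹ ∈ Submonoid.powers lam)
    refine ⟨i, ?_⟩
    set y := h ^ i • a - b with hy
    have hyZ : y ∈ fixS V (⊤ : Subgroup H) := by
      rw [← hψ0, hy, map_sub, (hpow i a (hNW ha)).2, hc, he, smul_smul, ← Units.val_mul,
        show lam ^ i = e * c⁻¹ from hi, inv_mul_cancel_right, sub_self]
    have h1 : h • y = y := mem_fixS.1 hyZ h (Subgroup.mem_top _)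
    rw [hy, smul_sub, ← mul_smul, ← pow_succ'] at h1
    rw [smul_sub, ← mul_smul, ← pow_succ]
    linear_combination (norm := abel) h1

end CfsgLib.CFun.OffenderPair
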