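import Cfsg.Agent.Lib.Fusion.Thompson

/-!
# A local subgroup generated by any two suitable conjugates

`M` is a proper subgroup containing every proper overgroup of a Sylow subgroup `T`, the group has no
non-trivial normal `p`-subgroup, and `Σ` is a set of non-trivial `p`-subgroups closed under conjugation.
Then some member `A` lies in a subgroup `L` that is not inside `M`, has every proper subgroup over `A`
inside `M`, is generated by `A` and any conjugate by an element outside `M`, and has a Sylow subgroup over `A`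
inside an `M`-conjugate of `T`.
-/

set_option autoImplicit false
set_option linter.unusedSectionVars false
set_option linter.style.haveILetI false

open CfsgLib.Fusion (conjBy mem_conjBy conj_mem_conjBy conjBy_le_iff conjBy_eq_iff conjBy_conjBy conjBy_one
  conjBy_mono card_conjBy conjBy_normalizer conjBy_inv_conjBy conjBy_conjBy_inv isPGroup_conjBy)

namespace CfsgLib.CFun.OffenderPair

variable {H : Type*} [Group H]

/-- The subgroup generated by the members of a family lying in `R`. -/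
def gen (S : Set (Subgroup H)) (R : Subgroup H) : Subgroup H := sSup {A | A ∈ S ∧ A ≤ R}

theorem gen_le (S : Set (Subgroup H)) (R : Subgroup H) : gen S R ≤ R := sSup_le fun _ h => h.2

theorem le_gen {S : Set (Subgroup H)} {A R : Subgroup H} (hA : A ∈ S) (h : A ≤ R) : A ≤ gen S R :=
  le_sSup ⟨hA, h⟩

theorem gen_mono (S : Set (Subgroup H)) {R R' : Subgroup H} (h : R ≤ R') : gen S R ≤ gen S R' :=
  sSup_le_sSup fun _ hA => ⟨hA.1, hA.2.trans h⟩

theorem gen_gen (S : Set (Subgroup H)) (R : Subgroup H) : gen S (gen S R) = gen S R :=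
  le_antisymm (gen_le S _) (sSup_le fun _ hA => le_gen hA.1 (le_gen hA.1 hA.2))

theorem gen_conjBy {S : Set (Subgroup H)} (hS : ∀ A ∈ S, ∀ g : H, conjBy g A ∈ S) (g : H) (R : Subgroup H) :
    gen S (conjBy g R) = conjBy g (gen S R) := by
  refine le_antisymm (sSup_le fun A hA => ?_) ?_
  · rw [← conjBy_conjBy_inv g A]
    refine conjBy_mono (le_gen (hS A hA.1 g⁻¹) ?_)
    rw [← conjBy_inv_conjBy g R]
    exact conjBy_mono hA.2
  · rw [conjBy, Subgroup.map_le_iff_le_comap]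
    refine sSup_le fun A hA => Subgroup.map_le_iff_le_comap.1 ?_
    exact le_gen (hS A hA.1 g) (conjBy_mono hA.2)

theorem normalizer_le_normalizer_gen {S : Set (Subgroup H)} (hS : ∀ A ∈ S, ∀ g : H, conjBy g A ∈ S)
    (R : Subgroup H) : Subgroup.normalizer (R : Set H) ≤ Subgroup.normalizer (gen S R : Set H) := fun g hg => by
  rw [← conjBy_eq_iff] at hg ⊢
  rw [← gen_conjBy hS, hg]

/-- A `p`-subgroup of largest order inside `K`. -/
structure SylIn (p : ℕ) (U K : Subgroup H) : Prop where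
  pgroup : IsPGroup p U
  le : U ≤ K
  max : ∀ W : Subgroup H, IsPGroup p W → W ≤ K → Nat.card W ≤ Nat.card U

variable [Finite H] {p : ℕ} [Fact p.Prime]

theorem SylIn.exists_ge {R K : Subgroup H} (hR : IsPGroup p R) (hRK : R ≤ K) :
    ∃ U, SylIn p U K ∧ R ≤ U := by
  obtain ⟨U, hRU, hUK, hU, hi⟩ := CfsgLib.Fusion.exists_le_not_dvd_relIndex hR hRK
  refine ⟨U, ⟨hU, hUK, fun W hW hWK => ?_⟩, hRU⟩
  obtain ⟨h, -, hh⟩ := CfsgLib.Fusion.exists_conj_le_of_not_dvd_relIndex hU hUK hi hW hWK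
  exact card_conjBy h W ▸ Subgroup.card_le_of_le hh

theorem SylIn.not_dvd {U K : Subgroup H} (h : SylIn p U K) : ¬ p ∣ U.relIndex K := by
  obtain ⟨W, hUW, hWK, hW, hi⟩ := CfsgLib.Fusion.exists_le_not_dvd_relIndex h.pgroup h.le
  rwa [Subgroup.eq_of_le_of_card_ge hUW (h.max W hW hWK)]

theorem SylIn.exists_conj_le {U K R : Subgroup H} (h : SylIn p U K) (hR : IsPGroup p R) (hRK : R ≤ K) :
    ∃ k ∈ K, conjBy k R ≤ U :=
  CfsgLib.Fusion.exists_conj_le_of_not_dvd_relIndex h.pgroup h.le h.not_dvd hR hRK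

theorem SylIn.exists_conj_eq {U V K : Subgroup H} (hU : SylIn p U K) (hV : SylIn p V K) :
    ∃ k ∈ K, conjBy k V = U := by
  obtain ⟨k, hk, hle⟩ := hU.exists_conj_le hV.pgroup hV.le
  exact ⟨k, hk, Subgroup.eq_of_le_of_card_ge hle (by rw [card_conjBy]; exact hV.max U hU.pgroup hU.le)⟩

theorem SylIn.conjBy_mem {U K : Subgroup H} {k : H} (h : SylIn p U K) (hk : k ∈ K) :
    SylIn p (conjBy k U) K :=
  ⟨isPGroup_conjBy k h.pgroup,
    conjBy_le_iff.2 fun _ hx => K.mul_mem (K.mul_mem hk (h.le hx)) (K.inv_mem hk),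
    fun W hW hWK => by rw [card_conjBy]; exact h.max W hW hWK⟩

/-- The local subgroup. -/
theorem exists_local (T : Sylow p H) (M : Subgroup H) (hTM : (T : Subgroup H) ≤ M) (hMne : M ≠ ⊤)
    (huniq : ∀ K : Subgroup H, (T : Subgroup H) ≤ K → K ≠ ⊤ → K ≤ M)
    (hcore : ∀ N : Subgroup H, N.Normal → IsPGroup p N → N = ⊥)
    (S : Set (Subgroup H)) (hS : ∀ A ∈ S, ∀ g : H, conjBy g A ∈ S) (hp : ∀ A ∈ S, IsPGroup p A)
    (hne : ∀ A ∈ S, A ≠ ⊥) (hex : ∃ A ∈ S, A ≤ (T : Subgroup H)) :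
    ∃ (A L : Subgroup H) (T₀ : Sylow p ↥L) (m : H), A ∈ S ∧ m ∈ M ∧ A ≤ L ∧ A ≤ M ∧ ¬ L ≤ M ∧
      A.subgroupOf L ≤ (T₀ : Subgroup ↥L) ∧ (T₀ : Subgroup ↥L) ≤ M.subgroupOf L ∧
      (∀ t ∈ (T₀ : Subgroup ↥L), m⁻¹ * (t : H) * m ∈ (T : Subgroup H)) ∧
      (∀ K : Subgroup ↥L, A.subgroupOf L ≤ K → K ≠ ⊤ → K ≤ M.subgroupOf L) ∧
      ∀ x ∈ L, x ∉ M → A ⊔ conjBy x A = L := by
  classical
  set P : Subgroup H := (T : Subgroup H) with hP
  set Cand : Set (Subgroup H) :=
    {R | R ≤ P ∧ gen S R = R ∧ ¬ Subgroup.normalizer (R : Set H) ≤ M}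
  let f : Subgroup H → ℕ := fun R =>
    Nat.card R * (Nat.card H + 1) + Nat.card ↥(P ⊓ Subgroup.normalizer (R : Set H))
  have hbot : (⊥ : Subgroup H) ∈ Cand := by
    refine ⟨bot_le, le_antisymm (gen_le S _) bot_le, fun h => hMne (top_le_iff.1 ?_)⟩
    rwa [Subgroup.normalizer_eq_top] at h
  obtain ⟨R₀, hR₀mem, hR₀max'⟩ := Finset.exists_max_image (Set.toFinite Cand).toFinset f
    ⟨⊥, (Set.toFinite Cand).mem_toFinset.2 hbot⟩
  obtain ⟨hR₀T, hR₀g, hR₀N⟩ := (Set.toFinite Cand).mem_toFinset.1 hR₀mem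
  have hR₀max : ∀ R ∈ Cand, f R ≤ f R₀ := fun R hR => hR₀max' R ((Set.toFinite Cand).mem_toFinset.2 hR)
  set H₀ := Subgroup.normalizer (R₀ : Set H) with hH₀
  set K := H₀ ⊓ M with hK
  set TH := P ⊓ H₀ with hTH
  have hPp : IsPGroup p P := T.2
  have hTHp : IsPGroup p TH := hPp.to_le inf_le_left
  have hR₀TH : R₀ ≤ TH := le_inf hR₀T Subgroup.le_normalizer
  have hTmax : SylIn p P M :=
    ⟨hPp, hTM, fun W hW _ => by
      obtain ⟨g, -, hg⟩ := CfsgLib.Fusion.exists_conj_le_of_not_dvd_relIndex (T := P) (H := ⊤) hPp le_top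
        (by rw [Subgroup.relIndex_top_right]; exact T.not_dvd_index) hW le_top
      exact card_conjBy g W ▸ Subgroup.card_le_of_le hg⟩
  have hsmall : ∀ R : Subgroup H, Nat.card ↥(P ⊓ Subgroup.normalizer (R : Set H)) < Nat.card H + 1 := fun R =>
    Nat.lt_succ_of_le (Subgroup.card_le_card_group _)
  have hconj : ∀ {m : H}, m ∈ M → ∀ R : Subgroup H, ¬ Subgroup.normalizer (R : Set H) ≤ M →
      ¬ Subgroup.normalizer (conjBy m R : Set H) ≤ M := by
    intro m hm R hR h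
    refine hR fun x hx => ?_
    have h1 : m * x * m⁻¹ ∈ M := h (conjBy_normalizer m R ▸ conj_mem_conjBy hx)
    simpa [mul_assoc] using M.mul_mem (M.mul_mem (M.inv_mem hm) h1) hm
  -- subgroups bigger than `R₀`
  have hbig : ∀ R : Subgroup H, IsPGroup p R → R ≤ M → gen S R = R → Nat.card R₀ < Nat.card R →
      Subgroup.normalizer (R : Set H) ≤ M := by
    intro R hR hRM hRg hlt
    by_contra hN
    obtain ⟨m, hm, hmR⟩ := hTmax.exists_conj_le hR hRM
    have hle := hR₀max _ ⟨hmR, by rw [gen_conjBy hS, hRg], hconj hm R hN⟩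
    have h2 : (Nat.card R₀ + 1) * (Nat.card H + 1) ≤ Nat.card R * (Nat.card H + 1) :=
      Nat.mul_le_mul_right _ hlt
    have h1 := hsmall R₀
    rw [add_mul, one_mul] at h2
    simp only [f, card_conjBy] at hle
    omega
  -- the Sylow subgroup of `H₀ ⊓ M`
  have hTHK : SylIn p TH K := by
    obtain ⟨W, hW, hTW⟩ := SylIn.exists_ge (K := K) hTHp (le_inf inf_le_right (inf_le_left.trans hTM))
    obtain ⟨m, hm, hmW⟩ := hTmax.exists_conj_le hW.pgroup (hW.le.trans inf_le_right)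
    have h1 : conjBy m R₀ ≤ P := (conjBy_mono (hR₀TH.trans hTW)).trans hmW
    have hle := hR₀max _ ⟨h1, by rw [gen_conjBy hS, hR₀g], hconj hm R₀ hR₀N⟩
    have h2 : conjBy m W ≤ P ⊓ Subgroup.normalizer (conjBy m R₀ : Set H) :=
      le_inf hmW (by rw [← conjBy_normalizer]; exact conjBy_mono (hW.le.trans inf_le_left))
    have h3 := Subgroup.card_le_of_le h2
    rw [card_conjBy] at h3
    simp only [f, card_conjBy] at hle
    have h4 : Nat.card W ≤ Nat.card TH := h3.trans (Nat.le_of_add_le_add_left hle)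
    rwa [Subgroup.eq_of_le_of_card_ge hTW h4]
  -- a member outside `R₀`
  have hgenne : gen S TH ≠ R₀ := by
    intro he
    by_cases hTT : TH = P
    · have hPH : P ≤ H₀ := inf_eq_left.1 hTT
      have htop : H₀ = ⊤ := by
        by_contra h
        exact hR₀N (huniq H₀ hPH h)
      haveI : R₀.Normal := Subgroup.normalizer_eq_top_iff.1 htop
      have hbot' : R₀ = ⊥ := hcore R₀ inferInstance (hPp.to_le hR₀T)
      obtain ⟨A, hA, hAP⟩ := hex
      refine hne A hA (le_bot_iff.1 ?_)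
      rw [← hbot', ← he, hTT]
      exact le_gen hA hAP
    · haveI : Group.IsNilpotent P := hPp.isNilpotent
      refine (CfsgLib.Fusion.lt_inf_normalizer (P := P) (T := TH) inf_le_left hTT).not_ge
        (le_inf inf_le_left ?_)
      rw [hH₀, ← he]
      exact inf_le_right.trans (normalizer_le_normalizer_gen hS TH)
  obtain ⟨A, hA, hATH, hAR₀⟩ : ∃ A ∈ S, A ≤ TH ∧ ¬ A ≤ R₀ := by
    by_contra! h
    exact hgenne (le_antisymm (sSup_le fun A hA => h A hA.1 hA.2) (hR₀g ▸ gen_mono S hR₀TH))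
  have hbigger : ∀ D : Subgroup H, R₀ ≤ D → A ≤ D → Nat.card R₀ < Nat.card ↥(gen S D) := by
    intro D hRD hAD
    have h1 : R₀ ≤ gen S D := hR₀g ▸ gen_mono S hRD
    refine lt_of_le_of_ne (Subgroup.card_le_of_le h1) fun h => hAR₀ ?_
    rw [Subgroup.eq_of_le_of_card_ge h1 h.ge]
    exact le_gen hA hAD
  have hNbig : ∀ D : Subgroup H, IsPGroup p D → D ≤ M → R₀ ≤ D → A ≤ D →
      Subgroup.normalizer (D : Set H) ≤ M := fun D hD hDM hRD hAD =>
    (normalizer_le_normalizer_gen hS D).trans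
      (hbig _ (hD.to_le (gen_le S D)) ((gen_le S D).trans hDM) (gen_gen S D) (hbigger D hRD hAD))
  have hTHM : TH ≤ M := inf_le_left.trans hTM
  have hNTH : Subgroup.normalizer (TH : Set H) ≤ M := hNbig TH hTHp hTHM hR₀TH hATH
  have hTHH : SylIn p TH H₀ := by
    obtain ⟨W, hW, hTW⟩ := SylIn.exists_ge (K := H₀) hTHp inf_le_right
    by_contra hnot
    have hWne : TH ≠ W := fun h => hnot (h ▸ hW)
    haveI : Group.IsNilpotent W := hW.pgroup.isNilpotent
    have hlt := CfsgLib.Fusion.lt_inf_normalizer hTW hWne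
    refine hlt.ne (Subgroup.eq_of_le_of_card_ge hlt.le ?_)
    exact hTHK.max _ (hW.pgroup.to_le inf_le_left)
      (le_inf (inf_le_left.trans hW.le) (inf_le_right.trans hNTH))
  have hKH : ∀ {U : Subgroup H}, SylIn p U K → SylIn p U H₀ := fun {U} hU =>
    ⟨hU.pgroup, hU.le.trans inf_le_left,
      fun W hW hWH => (hTHH.max W hW hWH).trans (hU.max TH hTHp hTHK.le)⟩
  have hR₀U : ∀ {U : Subgroup H}, SylIn p U H₀ → R₀ ≤ U := by
    intro U hU
    obtain ⟨k, hk, hkU⟩ := hU.exists_conj_eq hTHH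
    rw [← hkU, ← conjBy_eq_iff.2 hk]
    exact conjBy_mono hR₀TH
  -- every Sylow subgroup of `H₀` over `A` lies in `M`
  have hchain : ∀ (n : ℕ) (U T' : Subgroup H), SylIn p U H₀ → SylIn p T' H₀ → T' ≤ M → A ≤ U → A ≤ T' →
      Nat.card U - Nat.card ↥(U ⊓ T') ≤ n → U ≤ M := by
    intro n
    induction n with
    | zero =>
      intro U T' _ _ hT'M _ _ hn
      have he : U ⊓ T' = U := Subgroup.eq_of_le_of_card_ge inf_le_left (by omega)
      exact (inf_eq_left.1 he).trans hT'M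
    | succ n ih =>
      intro U T' hU hT' hT'M hAU hAT' hn
      set D := U ⊓ T' with hD
      by_cases hDU : D = U
      · exact (inf_eq_left.1 hDU).trans hT'M
      haveI : Group.IsNilpotent U := hU.pgroup.isNilpotent
      have hlt := CfsgLib.Fusion.lt_inf_normalizer (inf_le_left : D ≤ U) hDU
      have hND := hNbig D (hU.pgroup.to_le inf_le_left) (inf_le_right.trans hT'M)
        (le_inf (hR₀U hU) (hR₀U hT')) (le_inf hAU hAT')
      obtain ⟨T'', hT'', hle⟩ := SylIn.exists_ge (K := K)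
        (hU.pgroup.to_le (inf_le_left : U ⊓ Subgroup.normalizer (D : Set H) ≤ U))
        (le_inf (inf_le_left.trans hU.le) (inf_le_right.trans hND))
      refine ih U T'' hU (hKH hT'') (hT''.le.trans inf_le_right) hAU
        ((le_inf hAU hAT' : A ≤ D).trans (hlt.le.trans hle)) ?_
      have h1 : Nat.card D < Nat.card ↥(U ⊓ Subgroup.normalizer (D : Set H)) :=
        lt_of_le_of_ne (Subgroup.card_le_of_le hlt.le) fun h =>
          hlt.ne (Subgroup.eq_of_le_of_card_ge hlt.le h.ge)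
      have h2 : U ⊓ Subgroup.normalizer (D : Set H) ≤ U ⊓ T'' := le_inf inf_le_left hle
      have h3 := Subgroup.card_le_of_le h2
      omega
  have hSylM : ∀ {U : Subgroup H}, SylIn p U H₀ → A ≤ U → U ≤ M := fun {U} hU hAU =>
    hchain _ U TH hU hTHH hTHM hAU hATH le_rfl
  have hNU : ∀ {U : Subgroup H}, SylIn p U K → ∀ g ∈ H₀, g ∈ Subgroup.normalizer (U : Set H) → g ∈ M := by
    intro U hU g hg hgU
    obtain ⟨k, hk, hkU⟩ := hU.exists_conj_eq hTHK
    rw [← hkU, ← conjBy_normalizer, mem_conjBy] at hgU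
    have h1 := hNTH hgU
    simpa [mul_assoc] using M.mul_mem (M.mul_mem hk.2 h1) (M.inv_mem hk.2)
  obtain ⟨L, ⟨hLH, hAL, hLM⟩, hLmin⟩ :=
    (Set.toFinite {Q : Subgroup H | Q ≤ H₀ ∧ A ≤ Q ∧ ¬ Q ≤ M}).exists_minimal
      ⟨H₀, le_rfl, hATH.trans inf_le_right, hR₀N⟩
  have hprop : ∀ Q : Subgroup H, A ≤ Q → Q ≤ L → Q ≠ L → Q ≤ M := by
    intro Q hAQ hQL hne'
    by_contra hQM
    exact hne' (le_antisymm hQL (hLmin ⟨hQL.trans hLH, hAQ, hQM⟩ hQL))
  have hAM : A ≤ M := hATH.trans hTHM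
  obtain ⟨T₀, hT₀⟩ := ((hp A hA).of_equiv (Subgroup.subgroupOfEquivOfLe hAL).symm).exists_le_sylow
  obtain ⟨U, hU, hTU⟩ := SylIn.exists_ge (K := H₀) (T₀.2.map L.subtype)
    ((Subgroup.map_subtype_le _).trans hLH)
  have hAU : A ≤ U := fun a ha => hTU ⟨⟨a, hAL ha⟩, hT₀ ha, rfl⟩
  have hUM : U ≤ M := hSylM hU hAU
  have hUK : SylIn p U K := ⟨hU.pgroup, le_inf hU.le hUM, fun W hW hWK => hU.max W hW (hWK.trans inf_le_left)⟩
  obtain ⟨k, hk, hkU⟩ := hTHK.exists_conj_eq hUK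
  refine ⟨A, L, T₀, k⁻¹, hA, M.inv_mem hk.2, hAL, hAM, hLM, hT₀, fun t ht => hUM (hTU ⟨t, ht, rfl⟩),
    fun t ht => ?_, fun Q hAQ hQ t ht => ?_, fun x hx hxM => ?_⟩
  · rw [inv_inv]
    exact (hkU.le.trans inf_le_left) (conj_mem_conjBy (hTU ⟨t, ht, rfl⟩))
  · refine hprop (Q.map L.subtype) (fun a ha => ⟨⟨a, hAL ha⟩, hAQ ha, rfl⟩) (Subgroup.map_subtype_le _)
      (fun h => hQ ?_) ⟨t, ht, rfl⟩
    refine Subgroup.map_injective L.subtype_injective (h.trans ?_)
    rw [← MonoidHom.range_eq_map, Subgroup.range_subtype]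
  · by_contra hne'
    have hle : A ⊔ conjBy x A ≤ L :=
      sup_le hAL (conjBy_le_iff.2 fun a ha => L.mul_mem (L.mul_mem hx (hAL ha)) (L.inv_mem hx))
    obtain ⟨W, hW, hAW⟩ := SylIn.exists_ge (K := K) (isPGroup_conjBy x (hp A hA))
      (le_inf (le_sup_right.trans (hle.trans hLH)) (le_sup_right.trans (hprop _ le_sup_left hle hne')))
    have hW' := (hKH hW).conjBy_mem (H₀.inv_mem (hLH hx))
    have hW'M := hSylM hW' (by rw [← conjBy_inv_conjBy x A]; exact conjBy_mono hAW)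
    obtain ⟨j, hj, hje⟩ := SylIn.exists_conj_eq
      (⟨hW'.pgroup, le_inf hW'.le hW'M, fun Q hQ hQK => hW'.max Q hQ (hQK.trans inf_le_left)⟩ :
        SylIn p (conjBy x⁻¹ W) K) hW
    have h1 : x * j ∈ Subgroup.normalizer (W : Set H) := by
      rw [← conjBy_eq_iff, ← conjBy_conjBy, hje, conjBy_conjBy_inv]
    have h2 := hNU hW _ (H₀.mul_mem (hLH hx) hj.1) h1
    exact hxM (by simpa using M.mul_mem h2 (M.inv_mem hj.2))

end CfsgLib.CFun.OffenderPair
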