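import Cfsg.Agent.Lib.Char.NatSL.Offender

/-!
# Minimal offenders on an abelian `p`-group

A minimal offender on a faithful abelian `p`-group (of any exponent) acts quadratically and is elementary
abelian: if `A_p` is the set of `p`-th powers and `A[p]` the set of elements of order dividing `p`, then one
of them is an offender.
-/

set_option autoImplicit false
set_option linter.unusedSectionVars false
set_option linter.style.haveILetI false

open CfsgLib.Char.NatSL (fixS mem_fixS fixS_mono fixS_conj card_tr exists_iterate_sub_zero quadratic_of_strict)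

namespace CfsgLib.CFun.OffenderPair

variable {H : Type*} [Group H] {V : Type*} [AddCommGroup V] [DistribMulAction H V]

/-- A minimal offender. -/
structure IsMinOff (V : Type*) [AddCommGroup V] [DistribMulAction H V] (p : ℕ) (A : Subgroup H) : Prop where
  pgroup : IsPGroup p A
  comm : ∀ a ∈ A, ∀ b ∈ A, a * b = b * a
  ne_bot : A ≠ ⊥
  off : Nat.card V ≤ Nat.card ↥A * Nat.card ↥(fixS V A)
  min : ∀ X : Subgroup H, X ≤ A → X ≠ ⊥ → X ≠ A → Nat.card ↥X * Nat.card ↥(fixS V X) < Nat.card V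

variable [Finite H] [Finite V] {p : ℕ} [hp : Fact p.Prime]

/-- Every offender contains a minimal one. -/
theorem exists_isMinOff_le {A : Subgroup H} (hA : IsPGroup p A) (hcomm : ∀ a ∈ A, ∀ b ∈ A, a * b = b * a)
    (hne : A ≠ ⊥) (hoff : Nat.card V ≤ Nat.card ↥A * Nat.card ↥(fixS V A)) :
    ∃ B ≤ A, IsMinOff V p B := by
  obtain ⟨B, ⟨hBA, hBne, hBoff⟩, hBmin⟩ := (Set.toFinite {B : Subgroup H | B ≤ A ∧ B ≠ ⊥ ∧
    Nat.card V ≤ Nat.card ↥B * Nat.card ↥(fixS V B)}).exists_minimal ⟨A, le_rfl, hne, hoff⟩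
  refine ⟨B, hBA, hA.to_le hBA, fun a ha b hb => hcomm a (hBA ha) b (hBA hb), hBne, hBoff,
    fun X hX hXne hXB => ?_⟩
  by_contra h
  exact hXB (le_antisymm hX (hBmin ⟨hX.trans hBA, hXne, not_lt.1 h⟩ hX))

theorem IsMinOff.conj {A : Subgroup H} (h : IsMinOff V p A) (g : H) :
    IsMinOff V p (A.map (MulAut.conj g).toMonoidHom) := by
  have hcard : ∀ X : Subgroup H, Nat.card ↥(X.map (MulAut.conj g).toMonoidHom) = Nat.card ↥X := fun X =>
    Subgroup.card_map_of_injective (MulAut.conj g).injective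
  have hinj : Function.Injective (Subgroup.map (MulAut.conj g).toMonoidHom) :=
    Subgroup.map_injective (MulAut.conj g).injective
  refine ⟨h.pgroup.map _, ?_, fun he => h.ne_bot (hinj (he.trans (Subgroup.map_bot _).symm)), ?_, ?_⟩
  · rintro _ ⟨a, ha, rfl⟩ _ ⟨b, hb, rfl⟩
    rw [← map_mul, ← map_mul, h.comm a ha b hb]
  · rw [hcard, fixS_conj, card_tr]
    exact h.off
  · intro X hX hXne hXA
    obtain ⟨Y, rfl⟩ : ∃ Y : Subgroup H, Y.map (MulAut.conj g).toMonoidHom = X :=
      ⟨X.comap (MulAut.conj g).toMonoidHom, Subgroup.map_comap_eq_self_of_surjective (MulAut.conj g).surjective X⟩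
    rw [hcard, fixS_conj, card_tr]
    exact h.min Y ((Subgroup.map_le_map_iff_of_injective (MulAut.conj g).injective).1 hX)
      (fun he => hXne (by rw [he, Subgroup.map_bot])) (fun he => hXA (by rw [he]))

variable {A : Subgroup H}

theorem IsMinOff.strict (h : IsMinOff V p A) (X : Subgroup H) (hX : X ≤ A) (hne : X ≠ ⊥) (hXA : X ≠ A) :
    Nat.card ↥X * Nat.card ↥(fixS V X) < Nat.card ↥A * Nat.card ↥(fixS V A) :=
  (h.min X hX hne hXA).trans_le h.off

theorem IsMinOff.quadratic (h : IsMinOff V p A) (hV : ∃ k : ℕ, ∀ v : V, p ^ k • v = 0) {a : H} (ha : a ∈ A)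
    (v : V) : a • v - v ∈ fixS V A := by
  refine quadratic_of_strict h.comm (fun b hb => ?_) h.off h.strict ha v
  obtain ⟨j, hj⟩ := h.pgroup ⟨b, hb⟩
  exact exists_iterate_sub_zero hp.out hV (j := j) (congrArg Subtype.val hj)

theorem IsMinOff.pow_smul_sub (h : IsMinOff V p A) (hV : ∃ k : ℕ, ∀ v : V, p ^ k • v = 0) {a : H} (ha : a ∈ A)
    (v : V) : ∀ n : ℕ, a ^ n • v - v = n • (a • v - v)
  | 0 => by simp
  | n + 1 => by
    have h1 := h.pow_smul_sub hV ha v n
    have h2 := mem_fixS.1 (h.quadratic hV ha v) (a ^ n) (A.pow_mem ha n)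
    rw [smul_sub, ← mul_smul, ← pow_succ] at h2
    rw [succ_nsmul, ← h1]
    linear_combination (norm := abel) h2

/-- A minimal offender on a faithful module is elementary abelian. -/
theorem IsMinOff.pow_eq_one (h : IsMinOff V p A) (hV : ∃ k : ℕ, ∀ v : V, p ^ k • v = 0)
    (faith : ∀ g : H, (∀ v : V, g • v = v) → g = 1) {a : H} (ha : a ∈ A) : a ^ p = 1 := by
  classical
  by_contra hne
  set W := fixS V A with hW
  -- the two subgroups
  let f : ↥A →* ↥A := MonoidHom.mk' (fun x => x ^ p) fun x y =>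
    (show Commute x y from Subtype.ext (h.comm _ x.2 _ y.2)).mul_pow p
  set X₁ := f.range.map A.subtype with hX₁
  set X₂ := f.ker.map A.subtype with hX₂
  have hX₁A : X₁ ≤ A := Subgroup.map_subtype_le _
  have hX₂A : X₂ ≤ A := Subgroup.map_subtype_le _
  have hprod : Nat.card ↥X₁ * Nat.card ↥X₂ = Nat.card ↥A := by
    rw [hX₁, hX₂, Subgroup.card_map_of_injective A.subtype_injective,
      Subgroup.card_map_of_injective A.subtype_injective, ← Subgroup.index_ker, Subgroup.index_mul_card]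
  have hX₂A' : X₂ ≠ A := fun he => hne (by
    obtain ⟨x, hx, hxa⟩ := (he.symm ▸ ha : a ∈ X₂)
    rw [← hxa]
    exact congrArg Subtype.val (MonoidHom.mem_ker.1 hx))
  have hX₁ne : X₁ ≠ ⊥ := fun he =>
    hne (Subgroup.mem_bot.1 (he ▸ ⟨f ⟨a, ha⟩, ⟨_, rfl⟩, rfl⟩ : a ^ p ∈ (⊥ : Subgroup H)))
  have hX₂ne : X₂ ≠ ⊥ := by
    haveI : Nontrivial ↥A := (Subgroup.nontrivial_iff_ne_bot A).2 h.ne_bot
    obtain ⟨n, hn0, hn⟩ := h.pgroup.nontrivial_iff_card.1 inferInstance
    obtain ⟨x, hx⟩ := exists_prime_orderOf_dvd_card' p (hn ▸ dvd_pow_self p hn0.ne' : p ∣ Nat.card ↥A)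
    intro he
    have hxf : f x = 1 := by
      show x ^ p = 1
      rw [← hx, pow_orderOf_eq_one]
    have h1 : (x : H) ∈ X₂ := ⟨x, hxf, rfl⟩
    rw [he, Subgroup.mem_bot] at h1
    rw [show x = 1 from Subtype.ext h1, orderOf_one] at hx
    exact hp.out.ne_one hx.symm
  have hX₁A' : X₁ ≠ A := fun he => hX₂ne (Subgroup.eq_bot_of_card_eq _ (by
    rw [he] at hprod
    exact (mul_eq_left₀ Nat.card_pos.ne').1 hprod))
  -- their fixed points
  let π : V →+ V := nsmulAddMonoidHom p
  set D : AddSubgroup V := W ⊔ π.range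
  set C : AddSubgroup V := W.comap π
  have hC : C ≤ fixS V X₁ := by
    rintro v hv _ ⟨_, ⟨x, rfl⟩, rfl⟩
    show ((x : H) ^ p) • v = v
    rw [← sub_eq_zero, h.pow_smul_sub hV x.2]
    have hv' : (x : H) • (p • v) = p • v := mem_fixS.1 (AddSubgroup.mem_comap.1 hv) _ x.2
    rw [smul_sub p ((x : H) • v) v, ← smul_comm (x : H) p v, hv', sub_self]
  have hD : D ≤ fixS V X₂ := by
    refine sup_le (fixS_mono hX₂A) ?_
    rintro _ ⟨v, rfl⟩ _ ⟨x, hx, rfl⟩
    show (x : H) • (p • v) = p • v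
    rw [← sub_eq_zero, smul_comm (x : H) p v, ← smul_sub p ((x : H) • v) v, ← h.pow_smul_sub hV x.2,
      show (x : H) ^ p = 1 from congrArg Subtype.val (MonoidHom.mem_ker.1 hx), one_smul, sub_self]
  have hcount : Nat.card ↥C * Nat.card ↥D = Nat.card V * Nat.card ↥W := by
    let g : V →+ V ⧸ W := (QuotientAddGroup.mk' W).comp π
    have hker : g.ker = C := by
      ext v
      show QuotientAddGroup.mk' W (π v) = 0 ↔ π v ∈ W
      exact QuotientAddGroup.eq_zero_iff _
    have hrange : g.range = D.map (QuotientAddGroup.mk' W) := by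
      rw [AddMonoidHom.range_comp, AddSubgroup.map_sup, QuotientAddGroup.map_mk'_self, bot_sup_eq]
    have h1 : Nat.card V = Nat.card ↥C * Nat.card g.range := by
      rw [← hker, ← AddSubgroup.index_ker, AddSubgroup.card_mul_index]
    have h2 : Nat.card ↥W * Nat.card g.range = Nat.card ↥D := by
      rw [hrange, ← AddSubgroup.relIndex_ker, QuotientAddGroup.ker_mk', ← AddSubgroup.relIndex_bot_left W,
        ← AddSubgroup.relIndex_bot_left D]
      exact AddSubgroup.relIndex_mul_relIndex _ _ _ bot_le le_sup_left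
    rw [h1, ← h2]
    ring
  have h1 := (Nat.mul_le_mul_left _ (AddSubgroup.card_le_of_le hC)).trans_lt (h.min X₁ hX₁A hX₁ne hX₁A')
  have h2 := (Nat.mul_le_mul_left _ (AddSubgroup.card_le_of_le hD)).trans_lt (h.min X₂ hX₂A hX₂ne hX₂A')
  have h3 : Nat.card V * (Nat.card ↥A * Nat.card ↥W) < Nat.card V * Nat.card V := by
    calc Nat.card V * (Nat.card ↥A * Nat.card ↥W)
        = (Nat.card ↥X₁ * Nat.card ↥C) * (Nat.card ↥X₂ * Nat.card ↥D) := by
          rw [← hprod]
          linear_combination (Nat.card ↥X₁ * Nat.card ↥X₂) * hcount.symm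
      _ < _ := Nat.mul_lt_mul_of_lt_of_lt h1 h2
  exact (Nat.lt_of_mul_lt_mul_left h3).not_ge h.off

end CfsgLib.CFun.OffenderPair
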