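import Cfsg.Agent.Lib.CFun.OffenderPair.LLemma
import Cfsg.Agent.Lib.CFun.OffenderPair.Minimal
import Cfsg.Agent.Lib.CFun.OffenderPair.Torus

/-!
# An abelian offender above the stabilizer of a set of fixed points gives a torus

`H` acts faithfully on an abelian `p`-group `V` (`p` odd), has no non-trivial normal `p`-subgroup, a Sylow
subgroup `P` fixes `N` pointwise and lies in a unique maximal subgroup, the stabilizer of `N`, and contains
an abelian offender. Then an element of order prime to `p` keeps `N`, moves it and acts transitively on the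
non-zero elements `h a - a`, `a ∈ N`.
-/

set_option autoImplicit false
set_option linter.unusedSectionVars false
set_option linter.style.haveILetI false

open CfsgLib.Char.NatSL (OffData fixS mem_fixS fixS_mono)
open CfsgLib.Fusion (conjBy)

namespace CfsgLib.CFun.OffenderPair

variable {H : Type*} [Group H] [Finite H] {V : Type*} [AddCommGroup V] [Finite V] [DistribMulAction H V]
  {p : ℕ} [hp : Fact p.Prime]

theorem fixS_map {L : Subgroup H} (X : Subgroup ↥L) : fixS V (X.map L.subtype) = fixS V X := by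
  ext v
  rw [mem_fixS, mem_fixS]
  refine ⟨fun h x hx => h x ⟨x, hx, rfl⟩, ?_⟩
  rintro h _ ⟨x, hx, rfl⟩
  exact h x hx

/-- The torus. -/
theorem exists_torus_of_offender (hp2 : p ≠ 2) (hV : ∃ k : ℕ, ∀ v : V, p ^ k • v = 0)
    (faith : ∀ g : H, (∀ v : V, g • v = v) → g = 1) (P : Sylow p H) (N : AddSubgroup V)
    (hN : N ≤ fixS V (P : Subgroup H)) (hmove : ∃ g : H, ∃ v ∈ N, g • v ∉ N)
    (huniq : ∀ K : Subgroup H, (P : Subgroup H) ≤ K → K ≠ ⊤ → ∀ g ∈ K, ∀ v ∈ N, g • v ∈ N)
    (hcore : ∀ X : Subgroup H, X.Normal → IsPGroup p X → X = ⊥)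
    {B : Subgroup H} (hBP : B ≤ (P : Subgroup H)) (hBcomm : ∀ a ∈ B, ∀ b ∈ B, a * b = b * a) (hBne : B ≠ ⊥)
    (hBoff : Nat.card V ≤ Nat.card ↥B * Nat.card ↥(fixS V B)) :
    ∃ h : H, (∀ v ∈ N, h • v ∈ N) ∧ (∃ n : ℕ, n.Coprime p ∧ h ^ n = 1) ∧ (∃ v ∈ N, h • v ≠ v) ∧
      ∀ a ∈ N, ∀ b ∈ N, h • a - a ≠ 0 → h • b - b ≠ 0 → ∃ i : ℕ, h ^ i • (h • a - a) = h • b - b := by
  classical
  have hpow : ∀ g : H, (∀ v ∈ N, g • v ∈ N) → ∀ k : ℕ, ∀ v ∈ N, g ^ k • v ∈ N := fun g hg k => by
    induction k with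
    | zero => exact fun v hv => by simpa using hv
    | succ k ih => exact fun v hv => by rw [pow_succ', mul_smul]; exact hg _ (ih v hv)
  let M : Subgroup H :=
    { carrier := {g | ∀ v ∈ N, g • v ∈ N}
      one_mem' := fun v hv => by simpa using hv
      mul_mem' := fun {a b} ha hb v hv => by rw [mul_smul]; exact ha _ (hb v hv)
      inv_mem' := fun {g} hg => by
        rw [show g⁻¹ = g ^ (orderOf g - 1) from inv_eq_of_mul_eq_one_right (by
          rw [← pow_succ', Nat.sub_add_cancel (orderOf_pos g), pow_orderOf_eq_one])]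
        exact hpow g hg _ }
  have hPM : (P : Subgroup H) ≤ M := fun g hg v hv => by rwa [mem_fixS.1 (hN hv) g hg]
  obtain ⟨g₀, v₀, hv₀, hgv₀⟩ := hmove
  have hMne : M ≠ ⊤ := fun h => hgv₀ ((h.symm ▸ Subgroup.mem_top g₀ : g₀ ∈ M) v₀ hv₀)
  obtain ⟨A₀, hA₀B, hA₀⟩ := exists_isMinOff_le (P.2.to_le hBP) hBcomm hBne hBoff
  obtain ⟨A, L, T₀, m, hA, hm, hAL, hAM, hLM, hAT₀, hT₀M, hT₀P, hover, hgen⟩ :=
    exists_local P M hPM hMne (fun K hK hKt g hg => huniq K hK hKt g hg) hcore {A | IsMinOff V p A}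
      (fun A hA g => IsMinOff.conj hA g) (fun A hA => IsMinOff.pgroup hA) (fun A hA => IsMinOff.ne_bot hA)
      ⟨A₀, hA₀, hA₀B.trans hBP⟩
  replace hA : IsMinOff V p A := hA
  set A' : Subgroup ↥L := A.subgroupOf L with hA'
  set M₀ : Subgroup ↥L := M.subgroupOf L with hM₀
  have hA'map : A'.map L.subtype = A := by
    rw [hA', Subgroup.subgroupOf_map_subtype, inf_eq_left.2 hAL]
  have hcardA : Nat.card ↥A' = Nat.card ↥A := Nat.card_congr (Subgroup.subgroupOfEquivOfLe hAL).toEquiv
  have hfixA : fixS V A' = fixS V A := by rw [← fixS_map A', hA'map]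
  have hM₀ne : M₀ ≠ ⊤ := fun h => hLM fun x hx => by
    have h1 : (⟨x, hx⟩ : ↥L) ∈ M₀ := by rw [h]; exact Subgroup.mem_top _
    exact h1
  have hA'M : A' ≤ M₀ := fun a ha => hAM ha
  have hcoatom : IsCoatom M₀ := ⟨hM₀ne, fun K hK => by
    by_contra hKt
    exact hK.not_ge (hover K (hA'M.trans hK.le) hKt)⟩
  have hgen' : ∀ x : ↥L, x ∉ M₀ → A' ⊔ A'.map (MulAut.conj x).toMonoidHom = ⊤ := fun x hx => by
    apply Subgroup.map_injective L.subtype_injective
    rw [Subgroup.map_sup, hA'map, ← MonoidHom.range_eq_map, Subgroup.range_subtype, Subgroup.map_map]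
    conv_rhs => rw [← hgen x x.2 hx]
    congr 1
    conv_rhs => rw [← hA'map, conjBy, Subgroup.map_map]
    rfl
  have hd : OffData V p T₀ M₀ A' :=
    { faith := fun g hg => Subtype.ext (faith g hg)
      vp := hV
      acomm := fun a ha b hb => Subtype.ext (hA.comm _ ha _ hb)
      apow := fun a ha => Subtype.ext (hA.pow_eq_one hV faith ha)
      aT := hAT₀
      coatom := hcoatom
      tM := hT₀M
      uniq := fun K hK hTK => by
        rcases (hover K (hAT₀.trans hTK) hK.1).eq_or_lt with h | h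
        · exact h
        · exact absurd (hK.2 _ h) hM₀ne
      notNormal := fun hn => by
        obtain ⟨x, hx, hxM⟩ := SetLike.not_le_iff_exists.1 hLM
        refine hM₀ne (top_le_iff.1 ((hgen' ⟨x, hx⟩ hxM).ge.trans (le_trans ?_ hT₀M)))
        refine sup_le hAT₀ ?_
        rintro _ ⟨a, ha, rfl⟩
        exact hn.conj_mem a (hAT₀ ha) _
      off := by rw [hcardA, hfixA]; exact hA.off
      strict := fun X hX hXne hXA => by
        have h1 : X.map L.subtype ≤ A := hA'map ▸ Subgroup.map_mono hX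
        have h2 : X.map L.subtype ≠ ⊥ := fun h =>
          hXne ((Subgroup.map_eq_bot_iff_of_injective _ L.subtype_injective).1 h)
        have h3 : X.map L.subtype ≠ A := fun h =>
          hXA (Subgroup.map_injective L.subtype_injective (h.trans hA'map.symm))
        have h4 := hA.strict _ h1 h2 h3
        rw [hcardA, hfixA]
        rwa [fixS_map, Subgroup.card_map_of_injective L.subtype_injective] at h4
      moved := by
        by_contra! hno
        refine hLM fun x hx v hv => ?_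
        have h1 : v ∈ fixS V (T₀ : Subgroup ↥L) := fun t ht => by
          have h2 := mem_fixS.1 (hN ((M.inv_mem hm) v hv)) _ (hT₀P t ht)
          rw [mul_smul, mul_smul, smul_inv_smul] at h2
          exact MulAction.injective m⁻¹ h2
        have h3 : (⟨x, hx⟩ : ↥L) • v = v := mem_fixS.1 (hno v h1) _ (Subgroup.mem_top _)
        show x • v ∈ N
        rw [show x • v = v from h3]
        exact hv
      gen := hgen' }
  have hNT₀ : N ≤ fixS V (T₀ : Subgroup ↥L) := fun v hv t ht => by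
    have h2 := mem_fixS.1 (hN ((M.inv_mem hm) v hv)) _ (hT₀P t ht)
    rw [mul_smul, mul_smul, smul_inv_smul] at h2
    exact MulAction.injective m⁻¹ h2
  obtain ⟨h, hh, ⟨n, hn, hhn⟩, hv, htr⟩ := exists_torus hd hp2 N hNT₀ (fun g hg => hg) (by
    by_contra! hno
    refine hLM fun x hx v hv => ?_
    show x • v ∈ N
    rw [show x • v = v from mem_fixS.1 (hno v hv) ⟨x, hx⟩ (Subgroup.mem_top _)]
    exact hv)
  refine ⟨h, hh, ⟨n, hn, congrArg Subtype.val hhn⟩, hv, fun a ha b hb ha0 hb0 => ?_⟩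
  obtain ⟨i, hi⟩ := htr a ha b hb ha0 hb0
  exact ⟨i, hi⟩

end CfsgLib.CFun.OffenderPair
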